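import Cfsg.Agent.Lib.DC.J4a.D0
import Cfsg.Agent.Lib.Grp.M24p.Defs

set_option autoImplicit false
set_option maxRecDepth 100000
set_option Elab.async false
set_option linter.unusedSectionVars false

namespace Cfsg.Agent.DC.J4a
open Cfsg.Agent.CG

noncomputable def nd : ℕ → ℕ := (fun i => look 0xffffff ndT (Nat.mul 24 i))
noncomputable def ivT : ℕ := nat_lit 0x2010403060518071a191c1b1e1d101f12111413161517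
noncomputable abbrev iv : ℕ → ℕ := ivX ivT 23
noncomputable def rels : List (List ℕ × List ℤ) := [([256,256], []),
  ([257,2,0,2,0,2,0,1,0,1,0,2,0,2,256,1,0,1,0,2,0,2,0,1,0,1,0,1], []),
  ([257,0,256,0], []),
  ([1,0,1,0,2,0,1,0,2,256,1,0,2,0,1,0,2,0,1,0,1,0,2,0,1,0,2,256,1,0,2,0,1,0,2,0,1,0,1,0,2,0,1,0,2,256,1,0,2,0,1,0,2,0], []),
  ([1,0,1,0,1,0,1,1,0,1,0,1,0,1,1,0,1,0,1,0,1,256,2,2,0,2,0,2,0,2,0,2,0,2,0,2,2,0,2,0,2,0,256,0,1,0,1,0,1,1,0,1,0,1,0,1,0,1,0,1,0,1,1,1,0,1,0,1,0,1,1,0,1,0,1,0,1,1,0,1,0,1,0,1,256,2,2,0,2,0,2,0,2,0,2,0,2,0,2,2,0,2,0,2,0,256,0,1,0,1,0,1,1,0,1,0,1,0,1,0,1,0,1,0,1,1], [])]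
noncomputable def lrels : List (List ℕ) := []
noncomputable abbrev rels0 : List (List ℕ × List ℤ) := ([], []) :: ([256, 257], []) :: rels
noncomputable def idx : List (ℕ × ℕ) := [(257, 2)]
noncomputable def xs : List (ℕ × List ℕ × List ℤ) := [(81, [1,0,1,0,2,0,2,0,2,0,2,256,1,0,1,0,1,0,1,0,2,0,1,0,1,0,2,0,2,0,2,0,2,256,1,0,1,0,1,0,1,0,2,0,1,0,1,0,2,0,2,0,2,0,2,256,1,0,1,0,1,0,1,0,2,0,1,0,1,0,2,0,2,0,2,0,2,256,1,0,1,0,1,0,1,0,2,0,1,0,1,0,2,0,2,0,2,0,2,256,1,0,1,0,1,0,1,0,2,0,1,0,1,0,2,0,2,0,2,0,2,256,1,0,1,0,1,0,1,0,2,0], []),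
  (84, [17,20,17,0,12,19,1,22,10,18,1,0,1,0,2,0,2,0,2,0,2,256,1,0,1,0,1,0,1,0,2,0,1,0,1,0,2,0,2,0,2,0,2,256,1,0,1,0,1,0,1,0,2,0,1,0,1,0,2,0,2,0,2,0,2,256,1,0,1,0,1,0,1,0,2,0,17,9,21,2,20,11,0,18,19,18,0,1,0,2,0,2,0,2,0,2,257,1,0,1,0,1,0,1,0,2,0,2,0,1,0,2,0,2,0,2,0,2,257,1,0,1,0,1,0,1,0,2,0,2,0,1,0,2,0,2,0,2,0,2,257,1,0,1,0,1,0,1,0,2,0,2], []),
  (87, [18,19,22,0,13,15,18,10,0,14,1,0,1,0,2,0,2,0,2,0,2,256,1,0,1,0,1,0,1,0,2,0,1,0,1,0,2,0,2,0,2,0,2,256,1,0,1,0,1,0,1,0,2,0,1,0,1,0,2,0,2,0,2,0,2,256,1,0,1,0,1,0,1,0,2,0,13,0,9,17,16,14,0,21,20,17,0,1,0,2,0,2,0,2,0,2,257,1,0,1,0,1,0,1,0,2,0,2,0,1,0,2,0,2,0,2,0,2,257,1,0,1,0,1,0,1,0,2,0,2,0,1,0,2,0,2,0,2,0,2,257,1,0,1,0,1,0,1,0,2,0,2], []),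
  (90, [22,12,22,12,14,4,11,15,1,0,1,0,2,0,2,0,2,0,2,256,1,0,1,0,1,0,1,0,2,0,1,0,1,0,2,0,2,0,2,0,2,256,1,0,1,0,1,0,1,0,2,0,1,0,1,0,2,0,2,0,2,0,2,256,1,0,1,0,1,0,1,0,2,0,16,12,3,13,11,21,11,21,0,1,0,2,0,2,0,2,0,2,257,1,0,1,0,1,0,1,0,2,0,2,0,1,0,2,0,2,0,2,0,2,257,1,0,1,0,1,0,1,0,2,0,2,0,1,0,2,0,2,0,2,0,2,257,1,0,1,0,1,0,1,0,2,0,2], []),
  (93, [21,11,16,12,2,11,1,0,1,0,2,0,2,0,2,0,2,256,1,0,1,0,1,0,1,0,2,0,1,0,1,0,2,0,2,0,2,0,2,256,1,0,1,0,1,0,1,0,2,0,1,0,1,0,2,0,2,0,2,0,2,256,1,0,1,0,1,0,1,0,2,0,12,1,11,15,12,22,0,1,0,2,0,2,0,2,0,2,257,1,0,1,0,1,0,1,0,2,0,2,0,1,0,2,0,2,0,2,0,2,257,1,0,1,0,1,0,1,0,2,0,2,0,1,0,2,0,2,0,2,0,2,257,1,0,1,0,1,0,1,0,2,0,2], []),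
  (96, [20,17,14,19,18,11,3,15,17,1,0,1,0,2,0,2,0,2,0,2,256,1,0,1,0,1,0,1,0,2,0,1,0,1,0,2,0,2,0,2,0,2,256,1,0,1,0,1,0,1,0,2,0,1,0,1,0,2,0,2,0,2,0,2,256,1,0,1,0,1,0,1,0,2,0,18,16,4,12,17,20,13,18,19,0,1,0,2,0,2,0,2,0,2,257,1,0,1,0,1,0,1,0,2,0,2,0,1,0,2,0,2,0,2,0,2,257,1,0,1,0,1,0,1,0,2,0,2,0,1,0,2,0,2,0,2,0,2,257,1,0,1,0,1,0,1,0,2,0,2], []),
  (99, [17,17,19,0,13,16,20,18,2,16,2,1,0,1,0,2,0,2,0,2,0,2,256,1,0,1,0,1,0,1,0,2,0,1,0,1,0,2,0,2,0,2,0,2,256,1,0,1,0,1,0,1,0,2,0,1,0,1,0,2,0,2,0,2,0,2,256,1,0,1,0,1,0,1,0,2,0,1,15,1,17,19,15,14,0,20,18,18,0,1,0,2,0,2,0,2,0,2,257,1,0,1,0,1,0,1,0,2,0,2,0,1,0,2,0,2,0,2,0,2,257,1,0,1,0,1,0,1,0,2,0,2,0,1,0,2,0,2,0,2,0,2,257,1,0,1,0,1,0,1,0,2,0,2], []),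
  (102, [1,0,1,0,2,0,2,0,2,0,2,256,1,0,1,0,1,0,1,0,2,0,1,0,1,0,2,0,2,0,2,0,2,256,1,0,1,0,1,0,1,0,2,0,1,0,1,0,2,0,2,0,2,0,2,256,1,0,1,0,1,0,1,0,2,0,17,20,12,19,18,12,3,6,19,1,0,1,0,2,0,2,0,2,0,2,256,1,0,1,0,1,0,1,0,2,0,1,0,1,0,2,0,2,0,2,0,2,256,1,0,1,0,1,0,1,0,2,0,1,0,1,0,2,0,2,0,2,0,2,256,1,0,1,0,1,0,1,0,2,0,18,10,5,2,15,14,16,0,20,0,1,0,2,0,2,0,2,0,2,257,1,0,1,0,1,0,1,0,2,0,2,0,1,0,2,0,2,0,2,0,2,257,1,0,1,0,1,0,1,0,2,0,2,0,1,0,2,0,2,0,2,0,2,257,1,0,1,0,1,0,1,0,2,0,2,8,3,7,15,11,14,14,21,18], [])]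
noncomputable def ys : List (List ℕ × List ℤ) := [([256,256], []),
  ([17,20,17,0,12,19,1,22,10,18,256,17,9,21,2,20,11,0,18,19,18,257], []),
  ([18,19,22,0,13,15,18,10,0,14,256,13,0,9,17,16,14,0,21,20,17,257], []),
  ([22,12,22,12,14,4,11,15,256,16,12,3,13,11,21,11,21,257], []),
  ([21,11,16,12,2,11,256,12,1,11,15,12,22,257], []),
  ([20,17,14,19,18,11,3,15,17,256,18,16,4,12,17,20,13,18,19,257], []),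
  ([17,17,19,0,13,16,20,18,2,16,2,256,1,15,1,17,19,15,14,0,20,18,18,257], []),
  ([256,17,20,12,19,18,12,3,6,19,256,18,10,5,2,15,14,16,0,20,257,8,3,7,15,11,14,14,21,18], [])]
noncomputable def ws : List (List ℕ) := [[1,0,1,0,2,0,2,0,2,0,2,256,1,0,1,0,1,0,1,0,2,0,1,0,1,0,2,0,2,0,2,0,2,256,1,0,1,0,1,0,1,0,2,0,1,0,1,0,2,0,2,0,2,0,2,256,1,0,1,0,1,0,1,0,2,0]]

end Cfsg.Agent.DC.J4a
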